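import Mathlib

/-!
# Closed endomorphisms of integral Noetherian schemes with an isolated fixed point are surjective
-/

set_option autoImplicit false
universe u
open CategoryTheory AlgebraicGeometry IsLocalRing

namespace Groth.Agent.UnitalMul

/-- A local endomorphism of a Noetherian local domain with primary image of the maximal ideal is injective. -/
lemma injective_of_endo {A : Type u} [CommRing A] [IsDomain A] [IsLocalRing A] [IsNoetherianRing A]
    (f : A →+* A) [IsLocalHom f]
    (h : ∀ Q : Ideal A, Q.IsPrime → (maximalIdeal A).map f ≤ Q → Q = maximalIdeal A) :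
    Function.Injective f := by
  rw [RingHom.injective_iff_ker_eq_bot]
  by_contra hne
  obtain ⟨r, hr, hr0⟩ := Submodule.exists_mem_ne_zero_of_ne_bot hne
  let R := A ⧸ RingHom.ker f
  let g : R →+* A := RingHom.kerLift f
  letI : Algebra R A := g.toAlgebra
  let p : Ideal R := (maximalIdeal A).comap g
  haveI : (maximalIdeal A).LiesOver p := ⟨rfl⟩
  have h1 := Ideal.height_le_height_add_of_liesOver p (maximalIdeal A)
  have hmap : (maximalIdeal A).map f ≤ p.map g := by
    rw [Ideal.map_le_iff_le_comap]
    intro x hx
    exact Ideal.mem_map_of_mem g (x := Ideal.Quotient.mk (RingHom.ker f) x)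
      (show f x ∈ maximalIdeal A from map_nonunit f x hx)
  have h2 : ((maximalIdeal A).map (Ideal.Quotient.mk (p.map (algebraMap R A)))).height = 0 := by
    haveI : ((maximalIdeal A).map (Ideal.Quotient.mk (p.map (algebraMap R A)))).IsPrime :=
      Ideal.map_isPrime_of_surjective Ideal.Quotient.mk_surjective
        (by rw [Ideal.mk_ker]; exact Ideal.map_le_iff_le_comap.mpr le_rfl)
    rw [Ideal.height_eq_zero_iff]
    refine ⟨⟨inferInstance, bot_le⟩, fun P hP hle => ?_⟩
    have := hP.1
    have hQ := h (P.comap (Ideal.Quotient.mk (p.map (algebraMap R A)))) (Ideal.IsPrime.comap _)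
      (hmap.trans fun x hx => by
        rw [Ideal.mem_comap, Ideal.Quotient.eq_zero_iff_mem.mpr (show x ∈ p.map (algebraMap R A) from hx)]
        exact zero_mem _)
    rw [← Ideal.map_comap_of_surjective _ Ideal.Quotient.mk_surjective P, hQ]
  rw [h2, add_zero] at h1
  have h3 : ringKrullDim A ≤ ringKrullDim R := by
    rw [← IsLocalRing.maximalIdeal_height_eq_ringKrullDim]
    exact (WithBot.coe_le_coe.mpr h1).trans
      (Ideal.height_le_ringKrullDim_of_ne_top (Ideal.IsPrime.ne_top inferInstance))
  have h4 : ringKrullDim R + 1 ≤ ringKrullDim A := by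
    refine le_trans ?_ (ringKrullDim_quotient_succ_le_of_nonZeroDivisor (r := r)
      (mem_nonZeroDivisors_of_ne_zero hr0))
    gcongr
    refine ringKrullDim_le_of_surjective (Ideal.Quotient.factor (S := Ideal.span {r}) ?_)
      (Ideal.Quotient.factor_surjective _)
    rwa [Ideal.span_singleton_le_iff_mem]
  haveI : Nontrivial R := Ideal.Quotient.nontrivial_iff.mpr (RingHom.ker_ne_top f)
  have h5 := h4.trans h3
  haveI : IsLocalRing R := IsLocalRing.of_surjective' (Ideal.Quotient.mk _) Ideal.Quotient.mk_surjective
  have hfin : ringKrullDim R ≠ ⊤ := ringKrullDim_ne_top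
  have hbot : ringKrullDim R ≠ ⊥ := ringKrullDim_ne_bot
  revert h5 hfin hbot
  generalize ringKrullDim R = a
  intro h5 hfin hbot
  induction a using WithBot.recBotCoe with
  | bot => exact hbot rfl
  | coe a =>
    induction a using ENat.recTopCoe with
    | top => exact hfin rfl
    | coe a =>
      have : ((a + 1 : ℕ∞) : WithBot ℕ∞) ≤ ((a : ℕ∞) : WithBot ℕ∞) := h5
      exact absurd (by exact_mod_cast this : a + 1 ≤ a) (by omega)

/-- A closed endomorphism with an isolated fixed point is surjective. -/
theorem surjective_of_fixed_point {P : Scheme.{u}} [IsIntegral P] [IsLocallyNoetherian P] (φ : P ⟶ P)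
    [UniversallyClosed φ] (q : P) (hq : φ q = q) (hpre : ∀ y, φ y = q → y = q) : Surjective φ := by
  let c := P.presheaf.stalkCongr (Inseparable.of_eq hq)
  let f : P.presheaf.stalk q ⟶ P.presheaf.stalk q := c.inv ≫ φ.stalkMap q
  haveI : IsLocalHom f.hom := inferInstance
  have hf : Spec.map f ≫ P.fromSpecStalk q = P.fromSpecStalk q ≫ φ := by
    rw [Spec.map_comp, Category.assoc, ← Scheme.SpecMap_stalkMap_fromSpecStalk]
    congr 1
    exact Scheme.SpecMap_stalkSpecializes_fromSpecStalk (Inseparable.of_eq hq).specializes
  have hinj : Function.Injective f.hom := by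
    refine injective_of_endo f.hom fun Q hQ hle => ?_
    let z : Spec (P.presheaf.stalk q) := ⟨Q, hQ⟩
    have hz : (Spec.map f) z = closedPoint (P.presheaf.stalk q) := by
      refine PrimeSpectrum.ext ?_
      refine le_antisymm (IsLocalRing.le_maximalIdeal (Ideal.IsPrime.ne_top (Ideal.IsPrime.comap _))) ?_
      exact Ideal.map_le_iff_le_comap.mp hle
    have : P.fromSpecStalk q z = P.fromSpecStalk q (closedPoint _) := by
      rw [Scheme.fromSpecStalk_closedPoint]
      refine hpre _ ?_
      rw [← Scheme.Hom.comp_apply, ← hf, Scheme.Hom.comp_apply, hz, Scheme.fromSpecStalk_closedPoint]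
    exact congrArg PrimeSpectrum.asIdeal ((P.fromSpecStalk q).isEmbedding.injective this)
  let η := genericPoint P
  obtain ⟨z, hz⟩ : η ∈ Set.range (P.fromSpecStalk q) := by
    rw [Scheme.range_fromSpecStalk]
    exact genericPoint_specializes q
  let b : Spec (P.presheaf.stalk q) := ⟨⊥, Ideal.bot_prime⟩
  have hb : P.fromSpecStalk q b = η := by
    refine Inseparable.eq (Specializes.antisymm ?_ (genericPoint_specializes _))
    rw [← hz]
    exact ((PrimeSpectrum.le_iff_specializes b z).mp bot_le).map (P.fromSpecStalk q).continuous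
  have himg : φ η = η := by
    rw [← hb, ← Scheme.Hom.comp_apply, ← hf, Scheme.Hom.comp_apply]
    congr 1
    exact PrimeSpectrum.ext (Ideal.comap_bot_of_injective f.hom hinj)
  refine ⟨fun y => ?_⟩
  have hcl : IsClosed (Set.range φ) := φ.isClosedMap.isClosed_range
  exact (genericPoint_specializes y).mem_closed hcl ⟨η, himg⟩

end Groth.Agent.UnitalMul
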