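import Mathlib
import Groth.Agent.UnitalMul.Endo
import Groth.Agent.RigidProd.Point
import Groth.Agent.RigidProd.Sections
import Groth.Agent.BMCoh.Basic

/-!
# Translations for a unital multiplication on a complete variety
-/

set_option autoImplicit false
universe u
open CategoryTheory Limits AlgebraicGeometry MonoidalCategory CartesianMonoidalCategory

namespace Groth.Agent.UnitalMul

variable {k : Type u} [Field k] [IsAlgClosed k]


lemma exists_pointOf {W : Over (Spec (CommRingCat.of k))} [LocallyOfFiniteType W.hom] {w : W.left} (hw : IsClosed {w}) :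
    ∃ p : 𝟙_ (Over (Spec (CommRingCat.of k))) ⟶ W, p.left (IsLocalRing.closedPoint k) = w :=
  ⟨Over.homMk (pointOfClosedPoint W.hom w hw) (pointOfClosedPoint_comp _ _ _),
    pointOfClosedPoint_apply W.hom w hw _⟩

lemma point_ext {W : Over (Spec (CommRingCat.of k))} [LocallyOfFiniteType W.hom] {p q : 𝟙_ (Over (Spec (CommRingCat.of k))) ⟶ W}
    (h : p.left (IsLocalRing.closedPoint k) = q.left (IsLocalRing.closedPoint k)) : p = q :=
  Over.OverMorphism.ext (ext_of_apply_closedPoint_eq W.hom (Over.w p) (Over.w q) h)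

lemma isClosed_point {W : Over (Spec (CommRingCat.of k))} [LocallyOfFiniteType W.hom] (p : 𝟙_ (Over (Spec (CommRingCat.of k))) ⟶ W) :
    IsClosed {p.left (IsLocalRing.closedPoint k)} :=
  (pointEquivClosedPoint W.hom ⟨p.left, Over.w p⟩).2

lemma point_comp_apply {W W' : Over (Spec (CommRingCat.of k))} (p : 𝟙_ (Over (Spec (CommRingCat.of k))) ⟶ W) (f : W ⟶ W') :
    (p ≫ f).left (IsLocalRing.closedPoint k) = f.left (p.left (IsLocalRing.closedPoint k)) := rfl

/-- A nonempty closed subset of a scheme locally of finite type over a field has a rational point. -/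
lemma exists_point_mem {W : Over (Spec (CommRingCat.of k))} [LocallyOfFiniteType W.hom] {s : Set W.left}
    (hs : IsClosed s) (hne : s.Nonempty) : ∃ p : 𝟙_ (Over (Spec (CommRingCat.of k))) ⟶ W, p.left (IsLocalRing.closedPoint k) ∈ s := by
  have : JacobsonSpace W.left := LocallyOfFiniteType.jacobsonSpace W.hom
  obtain ⟨w, hw, hwc⟩ : (s ∩ closedPoints W.left).Nonempty := by
    by_contra hempty
    have h1 := JacobsonSpace.closure_inter_closedPoints_eq_closure (hs.isLocallyClosed)
    rw [Set.not_nonempty_iff_eq_empty.mp hempty, closure_empty, hs.closure_eq] at h1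
    exact hne.ne_empty h1.symm
  obtain ⟨p, hp⟩ := exists_pointOf (W := W) hwc
  exact ⟨p, hp ▸ hw⟩

variable {X : Over (Spec (CommRingCat.of k))} [IsProper X.hom] [GeometricallyIntegral X.hom]

/-- For a two-sided unital multiplication on a complete variety over an algebraically closed field,
the left translations are automorphisms. -/
theorem isIso_leftTranslation (e : 𝟙_ (Over (Spec (CommRingCat.of k))) ⟶ X) (m : X ⊗ X ⟶ X)
    (h₁ : lift (𝟙 X) (toUnit X ≫ e) ≫ m = 𝟙 X) (h₂ : lift (toUnit X ≫ e) (𝟙 X) ≫ m = 𝟙 X)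
    (x : 𝟙_ (Over (Spec (CommRingCat.of k))) ⟶ X) : IsIso (lift (toUnit X ≫ x) (𝟙 X) ≫ m) := by
  haveI : IsIntegral X.left := GeometricallyIntegral.isIntegral_of_subsingleton X.hom
  haveI : IsLocallyNoetherian X.left := LocallyOfFiniteType.isLocallyNoetherian X.hom
  haveI : IsProper (X ⊗ X).hom := by
    show IsProper (pullback.fst X.hom X.hom ≫ X.hom); infer_instance
  haveI : IsIntegral (X ⊗ X).left := by
    show IsIntegral (pullback X.hom X.hom); infer_instance
  haveI : IsLocallyNoetherian (X ⊗ X).left := LocallyOfFiniteType.isLocallyNoetherian (X ⊗ X).hom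
  let φ : X ⊗ X ⟶ X ⊗ X := lift m (snd X X)
  haveI : IsProper φ.left := by
    have : IsProper (φ.left ≫ (X ⊗ X).hom) := by rw [Over.w φ]; infer_instance
    exact IsProper.of_comp φ.left (X ⊗ X).hom
  let p₀ : 𝟙_ (Over (Spec (CommRingCat.of k))) ⟶ X ⊗ X := lift e e
  have he1 : ∀ a : 𝟙_ (Over (Spec (CommRingCat.of k))) ⟶ X, lift a e ≫ m = a := fun a => by
    calc lift a e ≫ m = a ≫ lift (𝟙 X) (toUnit X ≫ e) ≫ m := by
          rw [← Category.assoc, comp_lift, Category.comp_id, ← Category.assoc,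
            toUnit_unique (a ≫ toUnit X) (toUnit _), toUnit_unit, Category.id_comp]
      _ = a := by rw [h₁, Category.comp_id]
  have key : ∀ q : 𝟙_ (Over (Spec (CommRingCat.of k))) ⟶ X ⊗ X,
      q ≫ snd X X = e → q ≫ m = e → q = p₀ := fun q hq1 hq2 => by
    have hq : q = lift (q ≫ fst X X) e := by apply CartesianMonoidalCategory.hom_ext <;> simp [hq1]
    rw [hq, he1] at hq2
    rw [hq, hq2]
  have hfix : p₀ ≫ φ = p₀ := by
    show lift e e ≫ lift m (snd X X) = lift e e
    rw [comp_lift, lift_snd, he1]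
  have hsurj : Surjective φ.left := by
    refine surjective_of_fixed_point φ.left (p₀.left (IsLocalRing.closedPoint k)) ?_ ?_
    · rw [← point_comp_apply, hfix]
    intro y hy
    have hcl : IsClosed (φ.left ⁻¹' {p₀.left (IsLocalRing.closedPoint k)}) := (isClosed_point p₀).preimage φ.left.continuous
    have hsub : φ.left ⁻¹' {p₀.left (IsLocalRing.closedPoint k)} ∩ closedPoints (X ⊗ X).left ⊆ {p₀.left (IsLocalRing.closedPoint k)} := by
      rintro w ⟨hw, hwc⟩
      obtain ⟨q, hq⟩ := exists_pointOf (W := X ⊗ X) hwc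
      have hqφ : q ≫ φ = p₀ := point_ext (by rw [point_comp_apply, hq]; exact hw)
      have := key q (by simpa [φ, p₀] using congr($hqφ ≫ snd X X))
        (by simpa [φ, p₀] using congr($hqφ ≫ fst X X))
      rw [← hq, this]
      rfl
    have : JacobsonSpace (X ⊗ X).left := LocallyOfFiniteType.jacobsonSpace (X ⊗ X).hom
    have h' := closure_mono hsub
    rw [JacobsonSpace.closure_inter_closedPoints_eq_closure hcl.isLocallyClosed, hcl.closure_eq,
      (isClosed_point p₀).closure_eq] at h'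
    exact h' hy
  let Γs : Set (X ⊗ X).left := m.left ⁻¹' {e.left (IsLocalRing.closedPoint k)}
  obtain ⟨y₁, hy₁, hy₁'⟩ : ∃ y, y ∈ Γs ∧ (snd X X).left y = genericPoint X.left := by
    let σ := lift (toUnit X ≫ e) (𝟙 X)
    obtain ⟨y, hy⟩ := φ.left.surjective (σ.left (genericPoint X.left))
    refine ⟨y, ?_, ?_⟩
    · show m.left y = e.left (IsLocalRing.closedPoint k)
      calc m.left y = (φ ≫ fst X X).left y := by rw [lift_fst]
        _ = (σ ≫ fst X X).left (genericPoint X.left) := by
          rw [Over.comp_left, Scheme.Hom.comp_apply, hy, Over.comp_left, Scheme.Hom.comp_apply]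
        _ = e.left ((toUnit X).left (genericPoint X.left)) := by
          rw [lift_fst, Over.comp_left, Scheme.Hom.comp_apply]
        _ = _ := congrArg _ (Subsingleton.elim _ _)
    · calc (snd X X).left y = (φ ≫ snd X X).left y := by rw [lift_snd]
        _ = (σ ≫ snd X X).left (genericPoint X.left) := by
          rw [Over.comp_left, Scheme.Hom.comp_apply, hy, Over.comp_left, Scheme.Hom.comp_apply]
        _ = _ := by rw [lift_snd]; rfl
  have hΓ : IsClosed Γs := (isClosed_point e).preimage m.left.continuous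
  let Z : TopologicalSpace.Closeds (X ⊗ X).left := ⟨closure {y₁}, isClosed_closure⟩
  have hZΓ : (Z : Set (X ⊗ X).left) ⊆ Γs :=
    closure_minimal (Set.singleton_subset_iff.mpr hy₁) hΓ
  haveI : IsProper (snd X X).left := by
    show IsProper (pullback.snd X.hom X.hom); infer_instance
  have hZsurj : ∀ a : X.left, a ∈ (snd X X).left '' (Z : Set (X ⊗ X).left) := fun a =>
    (genericPoint_specializes a).mem_closed ((snd X X).left.isClosedMap _ Z.isClosed)
      ⟨y₁, subset_closure rfl, hy₁'⟩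
  let J := Scheme.IdealSheafData.vanishingIdeal Z
  let Zs : Over (Spec (CommRingCat.of k)) := Over.mk (J.subschemeι ≫ (X ⊗ X).hom)
  let ι : Zs ⟶ X ⊗ X := Over.homMk J.subschemeι rfl
  haveI : IsClosedImmersion ι.left := inferInstanceAs (IsClosedImmersion J.subschemeι)
  haveI : IsReduced Zs.left := Groth.Agent.BMCoh.isReduced_vanishingIdeal_subscheme Z
  haveI : IsProper Zs.hom := inferInstanceAs (IsProper (J.subschemeι ≫ (X ⊗ X).hom))
  have hrange : Set.range ι.left = (Z : Set (X ⊗ X).left) :=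
    (Scheme.IdealSheafData.range_subschemeι J).trans (Scheme.IdealSheafData.coe_support_vanishingIdeal Z)
  haveI : ConnectedSpace Zs.left := by
    have hirr : IsIrreducible (Z : Set (X ⊗ X).left) := isIrreducible_singleton.closure
    have hemb := ι.left.isClosedEmbedding.isEmbedding.isInducing
    have hc : _root_.IsConnected (Set.univ : Set Zs.left) := by
      refine ⟨?_, ?_⟩
      · obtain ⟨z, hz⟩ := hrange.symm.subset (subset_closure rfl : y₁ ∈ (Z : Set (X ⊗ X).left))
        exact ⟨z, trivial⟩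
      · refine hemb.isPreconnected_image.mp ?_
        rw [Set.image_univ, hrange]
        exact hirr.isConnected.isPreconnected
    exact connectedSpace_iff_univ.mpr hc
  have hpts : ∀ a : 𝟙_ (Over (Spec (CommRingCat.of k))) ⟶ X, ∃ γ : 𝟙_ (Over (Spec (CommRingCat.of k))) ⟶ Zs, γ ≫ ι ≫ snd X X = a := fun a => by
    obtain ⟨w, hwZ, hw⟩ := hZsurj (a.left (IsLocalRing.closedPoint k))
    obtain ⟨z, rfl⟩ := hrange.symm.subset hwZ
    obtain ⟨γ, hγ⟩ := exists_point_mem (W := Zs) (s := (ι ≫ snd X X).left ⁻¹' {a.left (IsLocalRing.closedPoint k)})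
      ((isClosed_point a).preimage (ι ≫ snd X X).left.continuous)
      ⟨z, by rw [Set.mem_preimage, Over.comp_left, Scheme.Hom.comp_apply]; exact hw⟩
    exact ⟨γ, point_ext (by rw [point_comp_apply]; exact hγ)⟩
  have hιm : ι ≫ m = toUnit Zs ≫ e := by
    apply Over.OverMorphism.ext
    haveI : LocallyOfFiniteType ((ι ≫ m).left ≫ X.hom) := by rw [Over.w]; infer_instance
    refine ext_of_apply_eq X.hom Set.univ isOpen_univ.isLocallyClosed dense_univ (fun z _ _ => ?_)
      (by rw [Over.w, Over.w])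
    rw [Over.comp_left, Over.comp_left, Scheme.Hom.comp_apply, Scheme.Hom.comp_apply]
    refine Eq.trans (hZΓ (hrange.subset ⟨z, rfl⟩)) ?_
    exact congrArg _ (Subsingleton.elim _ _)
  obtain ⟨γ₀, hγ₀'⟩ := hpts e
  have hγ₀ : γ₀ ≫ ι = p₀ := key _ (by rw [Category.assoc, hγ₀'])
    (by rw [Category.assoc, hιm, ← Category.assoc, toUnit_unique (γ₀ ≫ toUnit Zs) (toUnit _),
      toUnit_unit, Category.id_comp])
  have hTriv := RigidProd.trivialSections_of_connected Zs γ₀
  let h : Zs ⊗ X ⟶ X := lift (fst Zs X ≫ ι ≫ fst X X)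
    (lift (fst Zs X ≫ ι ≫ snd X X) (snd Zs X) ≫ m) ≫ m
  have hslice : lift (𝟙 Zs) (toUnit Zs ≫ e) ≫ h = toUnit Zs ≫ e := by
    have h1' : ∀ g : Zs ⟶ X, lift g (toUnit Zs ≫ e) ≫ m = g := fun g => by
      calc lift g (toUnit Zs ≫ e) ≫ m = g ≫ lift (𝟙 X) (toUnit X ≫ e) ≫ m := by
            rw [← Category.assoc, comp_lift, Category.comp_id, ← Category.assoc,
              toUnit_unique (g ≫ toUnit X) (toUnit _)]
        _ = g := by rw [h₁, Category.comp_id]
    simp only [h, comp_lift_assoc, comp_lift, lift_fst_assoc, lift_snd, Category.id_comp, h1']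
    have : lift (ι ≫ fst X X) (ι ≫ snd X X) = ι := by
      rw [← comp_lift, lift_fst_snd, Category.comp_id]
    rw [this, hιm]
  have hrig := RigidProd.rigid_point hTriv γ₀ h e e hslice
  have hbase : lift (toUnit X ≫ γ₀) (𝟙 X) ≫ h = 𝟙 X := by
    have ha : ∀ p : X ⊗ X ⟶ X, (toUnit X ≫ γ₀) ≫ ι ≫ p = toUnit X ≫ p₀ ≫ p := fun p => by
      rw [Category.assoc, ← Category.assoc γ₀, hγ₀]
    simp only [h, comp_lift_assoc, comp_lift, lift_fst_assoc, lift_snd, ha]
    simp only [p₀, lift_fst, lift_snd, h₂]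
  rw [hbase, Category.comp_id] at hrig
  have hinv : ∀ a : 𝟙_ (Over (Spec (CommRingCat.of k))) ⟶ X, ∃ b : 𝟙_ (Over (Spec (CommRingCat.of k))) ⟶ X,
      (lift (toUnit X ≫ a) (𝟙 X) ≫ m) ≫ (lift (toUnit X ≫ b) (𝟙 X) ≫ m) = 𝟙 X := fun a => by
    obtain ⟨γ, hγ⟩ := hpts a
    refine ⟨γ ≫ ι ≫ fst X X, ?_⟩
    have := congr(lift (toUnit X ≫ γ) (𝟙 X) ≫ $hrig)
    simp only [h, comp_lift_assoc, comp_lift, lift_fst_assoc, lift_snd, Category.assoc, hγ] at this
    refine Eq.trans ?_ this
    simp only [comp_lift_assoc, Category.comp_id]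
    congr 2
    rw [← Category.assoc (lift (toUnit X ≫ a) (𝟙 X) ≫ m) (toUnit X),
      toUnit_unique ((lift (toUnit X ≫ a) (𝟙 X) ≫ m) ≫ toUnit X) (toUnit X)]
  obtain ⟨b, hb⟩ := hinv x
  obtain ⟨c, hc⟩ := hinv b
  refine ⟨lift (toUnit X ≫ b) (𝟙 X) ≫ m, hb, ?_⟩
  have : lift (toUnit X ≫ c) (𝟙 X) ≫ m = lift (toUnit X ≫ x) (𝟙 X) ≫ m :=
    (Category.id_comp _).symm.trans ((congrArg (fun f => f ≫ _) hb.symm).trans
      ((Category.assoc _ _ _).trans ((congrArg (fun f => _ ≫ f) hc).trans (Category.comp_id _))))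
  exact this ▸ hc

end Groth.Agent.UnitalMul
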