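import Mathlib
import Groth.Agent.UnitalMul.Field
import Groth.Agent.FibrewiseCrit.Basic

/-!
# Translation by a point for a unital multiplication over a base is an automorphism
-/

set_option autoImplicit false
universe u
open CategoryTheory Limits AlgebraicGeometry MonoidalCategory CartesianMonoidalCategory

namespace Groth.Agent.UnitalMul

variable {S : Scheme.{u}} {X : Over S}

section BC

variable {S' : Scheme.{u}} (s : S' ⟶ S)

/-- The morphism to the base change attached to a morphism over `S`. -/
noncomputable def bcHom {A : Over S'} (f : (Over.map s).obj A ⟶ X) : A ⟶ (Over.pullback s).obj X :=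
  (Over.mapPullbackAdj s).homEquiv A X f

/-- The morphism over `S` attached to a morphism to the base change. -/
noncomputable def bcVal {A : Over S'} (f : A ⟶ (Over.pullback s).obj X) : (Over.map s).obj A ⟶ X :=
  ((Over.mapPullbackAdj s).homEquiv A X).symm f

@[simp] lemma bcVal_bcHom {A : Over S'} (f : (Over.map s).obj A ⟶ X) : bcVal s (bcHom s f) = f :=
  ((Over.mapPullbackAdj s).homEquiv A X).symm_apply_apply f

lemma bcVal_injective {A : Over S'} : Function.Injective (bcVal s (A := A) (X := X)) :=
  ((Over.mapPullbackAdj s).homEquiv A X).symm.injective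

lemma bcVal_comp {A B : Over S'} (a : A ⟶ B) (f : B ⟶ (Over.pullback s).obj X) :
    bcVal s (a ≫ f) = (Over.map s).map a ≫ bcVal s f :=
  Adjunction.homEquiv_naturality_left_symm _ _ _

/-- A multiplication on the base change. -/
noncomputable def bcMul (m : X ⊗ X ⟶ X) :
    (Over.pullback s).obj X ⊗ (Over.pullback s).obj X ⟶ (Over.pullback s).obj X :=
  bcHom s (lift (bcVal s (fst _ _)) (bcVal s (snd _ _)) ≫ m)

lemma bcVal_lift_bcMul (m : X ⊗ X ⟶ X) {A : Over S'} (a b : A ⟶ (Over.pullback s).obj X) :
    bcVal s (lift a b ≫ bcMul s m) = lift (bcVal s a) (bcVal s b) ≫ m := by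
  rw [bcVal_comp, bcMul, bcVal_bcHom, ← Category.assoc, comp_lift, ← bcVal_comp, ← bcVal_comp,
    lift_fst, lift_snd]

end BC

lemma toUnit_comp' {A B : Over S} (a : A ⟶ B) (e : 𝟙_ (Over S) ⟶ X) :
    a ≫ toUnit B ≫ e = toUnit A ≫ e := by
  rw [← Category.assoc, toUnit_unique (a ≫ toUnit B) (toUnit A)]

/-- For a two-sided unital multiplication on a proper flat scheme with geometrically integral fibres,
`(a, b) ↦ (a, ab)` is an automorphism. -/
theorem isIso_shear [IsProper X.hom] [Flat X.hom] [LocallyOfFinitePresentation X.hom]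
    [GeometricallyIntegral X.hom] (e : 𝟙_ (Over S) ⟶ X) (m : X ⊗ X ⟶ X)
    (h₁ : lift (𝟙 X) (toUnit X ≫ e) ≫ m = 𝟙 X) (h₂ : lift (toUnit X ≫ e) (𝟙 X) ≫ m = 𝟙 X) :
    IsIso (lift (fst X X) m) := by
  let φ : X ⊗ X ⟶ X ⊗ X := lift (fst X X) m
  let g : (X ⊗ X).left ⟶ X.left := (fst X X).left
  haveI : IsProper g := by show IsProper (pullback.fst X.hom X.hom); infer_instance
  haveI : Flat g := by show Flat (pullback.fst X.hom X.hom); infer_instance
  haveI : LocallyOfFinitePresentation g := by
    show LocallyOfFinitePresentation (pullback.fst X.hom X.hom); infer_instance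
  have hfg : φ.left ≫ g = g := by rw [← Over.comp_left, lift_fst]
  haveI : LocallyOfFinitePresentation (φ.left ≫ g) := by rw [hfg]; infer_instance
  haveI : Flat (φ.left ≫ g) := by rw [hfg]; infer_instance
  haveI : LocallyOfFinitePresentation φ.left :=
    Groth.FibrewiseCrit.locallyOfFinitePresentation_of_comp _ g inferInstance inferInstance
  suffices IsIso φ.left by
    haveI : IsIso ((Over.forget S).map φ) := this
    exact isIso_of_reflects_iso φ (Over.forget S)
  refine Groth.FibrewiseCrit.isIso_of_fibres φ.left g fun x => ?_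
  let K : Type u := AlgebraicClosure (X.left.residueField x)
  let c : Spec (CommRingCat.of K) ⟶ Spec (X.left.residueField x) :=
    Spec.map (CommRingCat.ofHom (algebraMap (X.left.residueField x) K))
  let xb : Spec (CommRingCat.of K) ⟶ X.left := c ≫ X.left.fromSpecResidueField x
  let s : Spec (CommRingCat.of K) ⟶ S := xb ≫ X.hom
  let XK : Over (Spec (CommRingCat.of K)) := (Over.pullback s).obj X
  haveI : IsProper XK.hom := by show IsProper (pullback.snd X.hom s); infer_instance
  haveI : GeometricallyIntegral XK.hom := by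
    show GeometricallyIntegral (pullback.snd X.hom s); infer_instance
  let xK : 𝟙_ (Over (Spec (CommRingCat.of K))) ⟶ XK :=
    bcHom s (Over.homMk xb (Category.id_comp _).symm)
  let eK : 𝟙_ (Over (Spec (CommRingCat.of K))) ⟶ XK := bcHom s (toUnit _ ≫ e)
  let mK := bcMul s m
  let ε : (Over.map s).obj XK ⟶ X := bcVal s (𝟙 XK)
  have hconst : bcVal s (toUnit XK ≫ eK) = toUnit _ ≫ e := by
    rw [bcVal_comp, bcVal_bcHom, toUnit_comp']
  have hK1 : lift (𝟙 XK) (toUnit XK ≫ eK) ≫ mK = 𝟙 XK := bcVal_injective s (by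
    rw [bcVal_lift_bcMul, hconst]
    calc lift ε (toUnit _ ≫ e) ≫ m = ε ≫ lift (𝟙 X) (toUnit X ≫ e) ≫ m := by
          rw [← Category.assoc, comp_lift, Category.comp_id, toUnit_comp']
      _ = ε := by rw [h₁, Category.comp_id])
  have hK2 : lift (toUnit XK ≫ eK) (𝟙 XK) ≫ mK = 𝟙 XK := bcVal_injective s (by
    rw [bcVal_lift_bcMul, hconst]
    calc lift (toUnit _ ≫ e) ε ≫ m = ε ≫ lift (toUnit X ≫ e) (𝟙 X) ≫ m := by
          rw [← Category.assoc, comp_lift, Category.comp_id, toUnit_comp']
      _ = ε := by rw [h₂, Category.comp_id])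
  haveI hiso := isIso_leftTranslation eK mK hK1 hK2 xK
  let L : XK ⟶ XK := lift (toUnit XK ≫ xK) (𝟙 XK) ≫ mK
  let xc : (Over.map s).obj XK ⟶ X := bcVal s (toUnit XK ≫ xK)
  let u : (Over.map s).obj XK ⟶ X ⊗ X := lift xc ε
  have hxc : ((Over.map s).map L) ≫ xc = xc := by
    rw [← bcVal_comp, ← Category.assoc, toUnit_unique (L ≫ toUnit XK) (toUnit XK)]
  have hsq : (Over.map s).map L ≫ u = u ≫ φ := by
    rw [comp_lift, comp_lift, lift_fst, hxc, ← bcVal_comp, Category.comp_id]
    congr 1
    exact bcVal_lift_bcMul s m _ _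
  have hxc' : xc.left = XK.hom ≫ xb := by
    show (bcVal s (toUnit XK ≫ xK)).left = _
    rw [bcVal_comp, bcVal_bcHom]
    rfl
  have hε : ε.left = pullback.fst X.hom s := by
    simp [ε, bcVal, Over.mapPullbackAdj, Adjunction.mkOfHomEquiv_homEquiv, XK]
  have hu : IsPullback u.left XK.hom g xb := by
    have hfst : u.left ≫ g = XK.hom ≫ xb := by rw [← Over.comp_left, lift_fst, hxc']
    have hsnd : u.left ≫ (snd X X).left = pullback.fst X.hom s := by rw [← Over.comp_left, lift_snd, hε]
    refine IsPullback.of_right ?_ hfst (IsPullback.of_hasPullback X.hom X.hom).flip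
    rw [show u.left ≫ pullback.snd X.hom X.hom = pullback.fst X.hom s from hsnd]
    exact IsPullback.of_hasPullback X.hom s
  have hL : IsPullback L.left u.left u.left φ.left := by
    refine (IsPullback.of_bot (h₁₁ := u.left) (v₁₁ := L.left) (v₁₂ := φ.left)
      (v₂₁ := XK.hom) (v₂₂ := g) ?_ ?_ hu).flip
    · rw [hfg, Over.w L]; exact hu
    · have := congr($(hsq).left)
      simpa using this.symm
  haveI : IsIso L.left := inferInstanceAs (IsIso ((Over.forget _).map L))
  haveI h1 : IsIso (pullback.snd φ.left u.left) := by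
    rw [← hL.flip.isoPullback_inv_snd]; infer_instance
  have hcond : u.left ≫ g = (XK.hom ≫ c) ≫ X.left.fromSpecResidueField x := by
    rw [hu.w, Category.assoc]
  let v : XK.left ⟶ g.fiber x := pullback.lift u.left (XK.hom ≫ c) hcond
  have hv1 : v ≫ g.fiberι x = u.left := pullback.lift_fst _ _ _
  have hv : IsPullback v XK.hom (g.fiberToSpecResidueField x) c := by
    refine IsPullback.of_right (h₁₂ := g.fiberι x) (h₂₂ := X.left.fromSpecResidueField x)
      (v₁₃ := g) ?_ (pullback.lift_snd _ _ _) (IsPullback.of_hasPullback g _)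
    rw [hv1]
    exact hu
  haveI : Surjective c := ⟨fun p => ⟨IsLocalRing.closedPoint K, Subsingleton.elim _ _⟩⟩
  have hcover : (@Surjective ⊓ @Flat ⊓ @QuasiCompact : MorphismProperty Scheme.{u}) v :=
    ⟨⟨MorphismProperty.of_isPullback hv.flip inferInstance, MorphismProperty.of_isPullback hv.flip inferInstance⟩,
      MorphismProperty.of_isPullback hv.flip inferInstance⟩
  show IsIso (pullback.snd φ.left (g.fiberι x))
  refine MorphismProperty.of_pullback_snd_of_descendsAlong
    (P := MorphismProperty.isomorphisms Scheme.{u}) (f := pullback.snd φ.left (g.fiberι x)) (g := v)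
    hcover ?_
  show IsIso _
  rw [← pullbackLeftPullbackSndIso_hom_snd φ.left (g.fiberι x) v]
  haveI : IsIso (pullback.snd φ.left (v ≫ g.fiberι x)) := by rw [hv1]; exact h1
  infer_instance

end Groth.Agent.UnitalMul
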